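import Cfsg.Agent.H98.HermOrth.Main

/-!
Root elements over the quadratic field in dimension ten: one root element outside a line over the field gives all.
-/

set_option autoImplicit false

namespace Cfsg.Agent.H98.HermOrth

open QuadraticMap Module Cfsg.Agent.Orthogonal
open Cfsg.Agent.H98.SubfieldOrth

variable {F V : Type*} [Field F] [AddCommGroup V] [Module F V]
  {Q : QuadraticForm F V} {J : V →ₗ[F] V} {α β : F} {X : Subgroup (O Q)}

namespace HStr

variable (h : HStr Q J α β) (hR : ∀ v, Q v = 0 → ∀ a : F, SIn X v (a • J v))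
include h hR

variable [Finite F] [FiniteDimensional F V]

/-- A root element at a point of the rest reaches every point not orthogonal to it. -/
theorem sIn_line (hQ : Nondeg Q) {u : V} {C : Submodule F V} (hC : Nondeg (F := F) (V := C) (restr Q C))
    (hJ : ∀ w ∈ C, J w ∈ C) (hd : 6 ≤ finrank F C) (hCu : ∀ z ∈ C, HO Q J u z) {y v : V} (hyC : y ∈ C)
    (hvC : v ∈ C) (hy : Q y = 0) (hv : Q v = 0) (hin : SIn X u y) (hyv : ¬HO Q J y v) : SIn X u v := by
  obtain ⟨E, hEC, hE, -, hdE, hEp, -⟩ := h.exists_rest hQ hC hJ hyC hvC hy hv hyv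
  obtain ⟨⟨e, he⟩, hQe⟩ : ∃ e : E, restr Q E e ≠ 0 := by
    have : Nontrivial E := Module.finrank_pos_iff.1 (show 0 < finrank F E by omega)
    obtain ⟨x, hx⟩ := exists_ne (0 : E)
    exact exists_anisotropic hE hx
  rw [restr_apply] at hQe
  set s := polar Q y (J v) with hs
  set t := polar Q y v with ht
  have hst : t ≠ 0 ∨ s ≠ 0 := by
    by_contra hc
    push Not at hc
    exact hyv hc
  have hD := h.det_ne hst
  set D := s * s - α * (t * s) - β * (t * t) with hDd
  -- the point of the line of `y` with value one at `v`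
  set a := -(β * t) / D with ha
  set b := -(s / D) with hb
  have hJy : polar Q (J y) v = α * t - s := h.adj y v
  have hJJ : polar Q (J y) (J v) = -β * t := h.pol_JJ y v
  set y' := a • y + b • J y with hy'
  have hy'v : polar Q y' v = 1 := by
    rw [hy', polar_add_left, polar_smul_left', polar_smul_left', hJy, ← ht, ha, hb]
    field_simp
    rw [hDd]; ring
  have hy'Jv : polar Q y' (J v) = a * s + b * (-β * t) := by
    rw [hy', polar_add_left, polar_smul_left', polar_smul_left', hJJ, ← hs]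
  have hy'm : y' ∈ ln J y := mem_ln.2 ⟨a, b, rfl⟩
  have hyy' : HO Q J y y' := h.ho_ln (h.ho_self hy) hy'm
  obtain ⟨hye, hve⟩ := hEp e he
  have hev := h.ho_symm hve
  have hey' : polar Q y' e = 0 := by
    rw [polar_comm]; exact (h.ho_ln (h.ho_symm hye) hy'm).1
  set w := v - Q e • y' + e with hw
  have hwC : w ∈ C := by
    refine C.add_mem (C.sub_mem hvC (C.smul_mem _ ?_)) (hEC he)
    exact C.add_mem (C.smul_mem _ hyC) (C.smul_mem _ (hJ y hyC))
  have hQw : Q w = 0 := by
    rw [hw, map_add_polar, qmap_sub, qmap_smul, polar_smul_right', polar_sub_left, polar_smul_left', hv,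
      h.q_ln hy hy'm, hve.1, hey', polar_comm (⇑Q) v y', hy'v]
    ring
  have hyw : polar Q y w = t := by
    rw [hw, polar_add_right, polar_sub_right, polar_smul_right', hye.1, hyy'.1, ← ht]; ring
  have hyJw : polar Q y (J w) = s := by
    rw [hw, map_add, map_sub, map_smul, polar_add_right, polar_sub_right, polar_smul_right', hye.2, hyy'.2, ← hs]
    ring
  have hJy'v : polar Q (J y') v = α - polar Q y' (J v) := by rw [h.adj, hy'v, mul_one]
  have hwv : polar Q w v = -Q e := by
    rw [hw, polar_add_left, polar_sub_left, polar_smul_left', polar_self', hv, hev.1, hy'v]; ring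
  have hwJv : polar Q w (J v) = -Q e * polar Q y' (J v) := by
    rw [hw, polar_add_left, polar_sub_left, polar_smul_left', hev.2, (h.sing v hv).2]; ring
  have hJwv : polar Q (J w) v = -Q e * (α - polar Q y' (J v)) := by
    rw [h.adj, hwv, hwJv]; ring
  have hJwJv : polar Q (J w) (J v) = β * Q e := by rw [h.pol_JJ, hwv]; ring
  have h1 : ∀ c : F, SIn X u (c • (s • v - t • J v)) := fun c => h.sIn_diff hR hin hv (hCu v hvC) c
  have hin₁ : SIn X u (s • w - t • J w) :=
    ((h.sIn_diff hR hin hQw (hCu w hwC) 1).congr rfl (by rw [one_smul, hyw, hyJw]))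
  have h3 := fun c : F => h.sIn_diff hR hin₁ hv (hCu v hvC) c
  set A := polar Q (s • w - t • J w) (J v) with hA
  set B := polar Q (s • w - t • J w) v with hB
  have hK : A * t - B * s ≠ 0 := by
    rw [show A * t - B * s = Q e * D by
      rw [hA, hB, hDd, polar_sub_left, polar_sub_left, polar_smul_left', polar_smul_left', polar_smul_left',
        polar_smul_left', hwv, hwJv, hJwv, hJwJv]
      ring]
    exact mul_ne_zero hQe hD
  refine ((h3 (t / (A * t - B * s))).add (h1 (-B / (A * t - B * s)))).congr rfl ?_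
  match_scalars
  · rw [← sub_eq_zero]
    have hK' : t * A - B * s ≠ 0 := by rwa [mul_comm t A]
    field_simp
    ring
  · field_simp
    ring

/-- A root element to a line orthogonal over the field makes the centre good. -/
theorem goodTen_of (hQ : Nondeg Q) (hn : 10 ≤ finrank F V) {u y : V} (hu : Q u = 0) (hu0 : u ≠ 0) (hy : Q y = 0)
    (huy : HO Q J u y) (hyu : y ∉ ln J u) (hin : SIn X u y) : Good J X u := by
  obtain ⟨z, -, hz, -, huz⟩ := exists_partner (J := J) (nondeg_restr_top hQ) Submodule.mem_top hu hu0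
  obtain ⟨C, -, hC, hJ, hdC, hCp, hCd⟩ :=
    h.exists_rest hQ (nondeg_restr_top hQ) (fun _ _ => Submodule.mem_top) Submodule.mem_top Submodule.mem_top hu hz huz
  rw [finrank_top] at hdC
  have hq : ∀ {v p : V}, Q v = 0 → HO Q J u v → p ∈ ln J u → Q (v - p) = 0 := fun {v p} hv huv hp => by
    rw [qmap_sub, hv, h.q_ln hu hp, (h.ho_ln (h.ho_symm huv) hp).1]; ring
  obtain ⟨p, hp, hpC⟩ := hCd y Submodule.mem_top huy
  set y₀ := y - p with hy₀
  have hy₀0 : y₀ ≠ 0 := fun e => hyu (sub_eq_zero.1 e ▸ hp)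
  have hy₀s : Q y₀ = 0 := hq hy huy hp
  have hin₀ : SIn X u y₀ := hin.sub (sIn_ln hR hu hp)
  have rule : ∀ y₁ ∈ C, Q y₁ = 0 → SIn X u y₁ → ∀ w ∈ C, Q w = 0 → w ≠ 0 → HO Q J y₁ w → y₁ ∉ ln J w →
      SIn X u w := by
    intro y₁ hy₁C hy₁ hin₁ w hwC hw hw0 hyw hnot
    obtain ⟨z', hz'C, hz', -, hwz'⟩ := exists_partner (J := J) hC hwC hw hw0
    obtain ⟨C', hC'C, hC', -, -, hC'p, hC'd⟩ := h.exists_rest hQ hC hJ hwC hz'C hw hz' hwz'
    obtain ⟨r, hr, hrC⟩ := hC'd y₁ hy₁C (h.ho_symm hyw)
    have hne : y₁ - r ≠ 0 := fun e => hnot (sub_eq_zero.1 e ▸ hr)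
    have hQr : Q (y₁ - r) = 0 := by
      rw [qmap_sub, hy₁, h.q_ln hw hr, (h.ho_ln hyw hr).1]; ring
    obtain ⟨d, hdC', hd, hdp, -⟩ := exists_partner (J := J) hC' hrC hQr hne
    have hwd := (hC'p d hdC').1
    rw [polar_sub_left, polar_comm (⇑Q) r d, (h.ho_ln (h.ho_symm hwd) hr).1, sub_zero] at hdp
    exact h.sIn_of_key hR hin₁ hw hd (hCp w hwC).1 (hCp d (hC'C hdC')).1 hwd hyw
      (Or.inl (by rw [hdp]; exact one_ne_zero)) (self_mem_ln w)
  intro w hw huw
  obtain ⟨r, hr, hrC⟩ := hCd w Submodule.mem_top huw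
  suffices hw₀ : SIn X u (w - r) from (hw₀.add (sIn_ln hR hu hr)).congr rfl (sub_add_cancel w r)
  rcases eq_or_ne (w - r) 0 with h0 | h0
  · rw [h0]; exact sIn_zero hu
  have hws : Q (w - r) = 0 := hq hw huw hr
  by_cases hho : HO Q J y₀ (w - r)
  swap
  · exact h.sIn_line hR hQ hC hJ (by omega) (fun z hz => (hCp z hz).1) hpC hrC hy₀s hws hin₀ hho
  by_cases hln : y₀ ∈ ln J (w - r)
  swap
  · exact rule _ hpC hy₀s hin₀ _ hrC hws h0 hho hln
  obtain ⟨x, hxC, hx, -, hyx⟩ := exists_partner (J := J) hC hpC hy₀s hy₀0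
  refine h.sIn_line hR hQ hC hJ (by omega) (fun z hz => (hCp z hz).1) hxC hrC hx hws
    (h.sIn_line hR hQ hC hJ (by omega) (fun z hz => (hCp z hz).1) hpC hxC hy₀s hx hin₀ hyx) fun e => ?_
  exact hyx (h.ho_symm (h.ho_ln e hln))

/-- A root element to a line not contained in a line over the field gives a good centre. -/
theorem goodTen_ofNew (hQ : Nondeg Q) (hn : 10 ≤ finrank F V) {p q : V} (hp : Q p = 0) (hp0 : p ≠ 0) (hq : Q q = 0)
    (hpq : polar Q p q = 0) (hqp : q ∉ ln J p) (hin : SIn X p q) : Good J X p := by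
  by_cases hho : HO Q J p q
  · exact h.goodTen_of hR hQ hn hp hp0 hq hho hqp hin
  obtain ⟨C, -, hC, -, hdC, hCp, -⟩ :=
    h.exists_rest hQ (nondeg_restr_top hQ) (fun _ _ => Submodule.mem_top) Submodule.mem_top Submodule.mem_top hp hq hho
  rw [finrank_top] at hdC
  obtain ⟨⟨u, huC⟩, hu0, hu⟩ := hC.exists_singular (by omega)
  rw [restr_apply] at hu
  replace hu0 : u ≠ 0 := fun e => hu0 (Subtype.ext e)
  obtain ⟨hpu, hqu⟩ := hCp u huC
  have hnot : u ∉ ln J p := fun e => hho (h.ho_symm (h.ho_ln hqu (h.ln_symm e hu0)))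
  have hne : polar Q q (J p) ≠ 0 := fun e => hho (h.ho_symm ⟨by rw [polar_comm]; exact hpq, e⟩)
  exact h.goodTen_of hR hQ hn hp hp0 hu hpu hnot
    (h.sIn_of_key hR hin hu hp hpu (h.ho_self hp) (h.ho_symm hpu) hqu (Or.inr hne) (self_mem_ln u))

/-- One good centre makes all singular vectors good. -/
theorem goodTen_all (hQ : Nondeg Q) (hn : 10 ≤ finrank F V) {u : V} (hu : Q u = 0) (hu0 : u ≠ 0) (hg : Good J X u)
    {v : V} (hv : Q v = 0) (hv0 : v ≠ 0) : Good J X v := by
  have move : ∀ u w, Q u = 0 → Q w = 0 → w ≠ 0 → HO Q J u w → u ∉ ln J w → Good J X u → Good J X w := by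
    intro u w hu hw hw0 huw hnot hg
    have h1 : SIn X u ((1 : F) • w) := by rw [one_smul]; exact hg w hw huw
    have h2 := h1.swap hw huw.1
    refine h.goodTen_of hR hQ hn hw hw0 (by rw [qmap_smul, hu, mul_zero]) ?_ ?_ h2
    · exact h.ho_ln (h.ho_symm huw) (Submodule.smul_mem _ _ (self_mem_ln u))
    · intro e
      exact hnot (by simpa using Submodule.smul_mem _ (-1 : F) e)
  rcases h.relay hQ (nondeg_restr_top hQ) (fun _ _ => Submodule.mem_top) (by rw [finrank_top]; omega)
    Submodule.mem_top Submodule.mem_top hu hv hu0 hv0 with ⟨h1, h2⟩ | ⟨t, -, ht, ht0, h1, h2, h3, h4⟩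
  · exact move u v hu hv hv0 h1 h2 hg
  · exact move t v ht hv hv0 h3 h4 (move u t hu ht ht0 h1 h2 hg)

/-- A root element to a line not contained in a line over the field gives every Eichler transformation. -/
theorem sieGroup_le_of_new_ten (hQ : Nondeg Q) (hn : 10 ≤ finrank F V) {p q : V} (hp : Q p = 0) (hp0 : p ≠ 0)
    (hq : Q q = 0) (hpq : polar Q p q = 0) (hqp : q ∉ ln J p) (hin : SIn X p q) : sieGroup Q ≤ X := by
  have hg0 := h.goodTen_ofNew hR hQ hn hp hp0 hq hpq hqp hin
  have hgood : ∀ v, Q v = 0 → v ≠ 0 → Good J X v := fun v hv hv0 => h.goodTen_all hR hQ hn hp hp0 hg0 hv hv0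
  have hfull : ∀ u, Q u = 0 → u ≠ 0 → OrthMax.Full X u := by
    intro u hu hu0 w _ hw
    obtain ⟨z, -, hz, huz, -⟩ := exists_partner (J := J) (nondeg_restr_top hQ) Submodule.mem_top hu hu0
    have hdW := hQ.finrank_hyperbolic_perp hu hz huz
    let S : Submodule F V :=
      { carrier := {x | ∀ c : F, SIn X u (c • x)}
        add_mem' := fun {a b} ha hb c => ((ha c).add (hb c)).congr rfl (smul_add c a b).symm
        zero_mem' := fun c => (sIn_zero hu).congr rfl (smul_zero c).symm
        smul_mem' := fun c x hx c' => (hx (c' * c)).congr rfl (mul_smul c' c x) }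
    have hle : perp Q (Submodule.span F {u, z}) ≤ S :=
      le_of_singular (hQ.nondeg_hyperbolic_perp hu hz huz) (by omega) S fun x hxW hx c => by
        have hux : polar Q u x = 0 := ((mem_perp_span_pair Q).1 hxW).1
        by_cases hho : HO Q J u x
        · exact hgood u hu hu0 _ (by rw [qmap_smul, hx, mul_zero])
            (h.ho_ln hho (Submodule.smul_mem _ _ (self_mem_ln x)))
        have hx0 : x ≠ 0 := fun e => hho ⟨hux, by rw [e, map_zero, polar_zero_right]⟩
        obtain ⟨C, -, hC, -, hdC, hCp, -⟩ := h.exists_rest hQ (nondeg_restr_top hQ) (fun _ _ => Submodule.mem_top)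
          Submodule.mem_top Submodule.mem_top hu hx hho
        rw [finrank_top] at hdC
        obtain ⟨x', hx'C, z', hz'C, hx', hz', hxz, -⟩ := exists_hyp hQ hC (by omega)
        have hz'0 : z' ≠ 0 := fun e => one_ne_zero (α := F) (by rw [← hxz, e, polar_zero_right])
        have h1 : SIn X x x' := hgood x hx hx0 x' hx' (hCp x' hx'C).2
        have h2 : SIn X z' x := hgood z' hz' hz'0 x hx (h.ho_symm (hCp z' hz'C).2)
        have hne : polar Q x (J u) ≠ 0 := fun e => hho (h.ho_symm ⟨by rw [polar_comm]; exact hux, e⟩)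
        refine ((hR u hu (c / polar Q x (J u))).step h1 h2 hx hx' hux (hCp x' hx'C).1.1 (hCp z' hz'C).1.1).congr rfl ?_
        rw [polar_smul_right', polar_comm (⇑Q) z' x', hxz, mul_one, div_mul_cancel₀ c hne]
    have hmem : w - polar Q z w • u ∈ perp Q (Submodule.span F {u, z}) := by
      refine (mem_perp_span_pair Q).2 ⟨?_, ?_⟩
      · rw [polar_sub_right, polar_smul_right', polar_self', hu, hw]; ring
      · rw [polar_sub_right, polar_smul_right', polar_comm (⇑Q) z u, huz]; ring
    have := ((hle hmem 1).add_smul (polar Q z w)).congr rfl (show _ = w by module)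
    exact this.2.2
  obtain ⟨z, -, hz, hpz, hpz'⟩ := exists_partner (J := J) (nondeg_restr_top hQ) Submodule.mem_top hp hp0
  have hz0 : z ≠ 0 := fun e => one_ne_zero (α := F) (by rw [← hpz, e, polar_zero_right])
  exact OrthMax.sieGroup_le_of_pair hQ (by omega) (hfull p hp hp0) (hfull z hz hz0) hp hz
    (by rw [hpz]; exact one_ne_zero)

end HStr

end Cfsg.Agent.H98.HermOrth
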