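import Cfsg.Agent.H72.HermTen.Good

/-!
Maximality of the normaliser of a quadratic field in Ω, dimension at least ten.
-/

set_option autoImplicit false

namespace Cfsg.Agent.H98.HermOrth

open QuadraticMap Module Cfsg.Agent.Orthogonal
open Cfsg.Agent.H98.SubfieldOrth
open scoped Matrix

variable {F : Type*} [Field F] [Fintype F] {ι : Type} [Fintype ι] [DecidableEq ι]

/-- Maximality for a generator of a quadratic field. -/
theorem isMaximalIn_herm_ten (Q : QuadraticForm F (ι → F)) (hQ : Nondeg Q) (hn : 10 ≤ finrank F (ι → F))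
    (K : Subalgebra F (Matrix ι ι F)) {j : Matrix ι ι F} {α β : F}
    (hK : ∀ k, k ∈ K ↔ ∃ a b : F, k = a • (1 : Matrix ι ι F) + b • j)
    (h : HStr Q (Matrix.mulVecLin j) α β) :
    Cfsg.Geo.IsMaximalIn (Cfsg.Geo.omegaGL ⇑Q) (Cfsg.Geo.subalgebraNormalizer K ⊓ Cfsg.Geo.omegaGL ⇑Q) := by
  have hind : ∀ x : ι → F, x ≠ 0 → ∀ a b : F, a • x + b • (j *ᵥ x) = 0 → a = 0 ∧ b = 0 := by
    intro x hx a b e
    rcases eq_or_ne b 0 with rfl | hb
    · rw [zero_smul, add_zero, smul_eq_zero] at e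
      exact ⟨e.resolve_right hx, rfl⟩
    exfalso
    set c := -a / b with hc
    have e1 : j *ᵥ x = c • x := by
      rw [hc, neg_div, neg_smul, div_eq_inv_mul, mul_smul, eq_neg_of_add_eq_zero_left e, smul_neg,
        inv_smul_smul₀ hb, neg_neg]
    have e2 := h.sq x
    simp only [Matrix.mulVecLin_apply, e1, Matrix.mulVec_smul, smul_smul, ← add_smul] at e2
    exact h.irr c (smul_left_injective F hx e2)
  have hjK : j ∈ K := (hK j).2 ⟨0, 1, by simp⟩
  have hconj : ∀ x : O Q, ∀ a b : F,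
      (∀ v, (x : (ι → F) ≃ₗ[F] (ι → F)) (j *ᵥ v) = a • ((x : (ι → F) ≃ₗ[F] (ι → F)) v) +
        b • (j *ᵥ (x : (ι → F) ≃ₗ[F] (ι → F)) v)) →
      H96.om Q x ∈ Cfsg.Geo.subalgebraNormalizer K := by
    intro x a b hx
    set g := H96.om Q x with hg
    have hgj : (g : Matrix ι ι F) * j = (a • (1 : Matrix ι ι F) + b • j) * g := by
      refine Matrix.ext_iff_mulVec.2 fun v => ?_
      simp only [← Matrix.mulVec_mulVec, Matrix.add_mulVec, Matrix.smul_mulVec, Matrix.one_mulVec, hg, H96.om_mulVec]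
      exact hx v
    have hmem : ∀ k ∈ K, (g : Matrix ι ι F) * k * ((g⁻¹ : GL ι F) : Matrix ι ι F) ∈ K := by
      intro k hk
      obtain ⟨c, e, rfl⟩ := (hK k).1 hk
      rw [mul_add, Matrix.mul_smul, Matrix.mul_smul, mul_one, hgj, add_mul, Matrix.smul_mul, Matrix.smul_mul,
        mul_assoc, ← Units.val_mul, mul_inv_cancel, Units.val_one, mul_one]
      exact (hK _).2 ⟨c + e * a, e * b, by module⟩
    intro k
    refine ⟨hmem k, fun hk => ?_⟩
    let φ : K → K := fun k => ⟨_, hmem k k.2⟩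
    have hφ : Function.Surjective φ := Finite.injective_iff_surjective.1 fun k₁ k₂ e => Subtype.ext
      ((Units.mul_right_inj g).1 ((Units.mul_left_inj (g⁻¹)).1 (congrArg Subtype.val e)))
    obtain ⟨⟨k', hk'⟩, e⟩ := hφ ⟨_, hk⟩
    exact (show k' = k from (Units.mul_right_inj g).1 ((Units.mul_left_inj (g⁻¹)).1 (congrArg Subtype.val e))) ▸ hk'
  refine OrthMax.isMaximalIn_omega hQ (by omega) _ ?_ fun X hXS ⟨g, hgX, hgS⟩ => ?_
  · obtain ⟨u, hu0, hu⟩ := hQ.exists_singular (by omega)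
    obtain ⟨z, -, hz, huz, huz'⟩ := HStr.exists_partner (J := Matrix.mulVecLin j) (nondeg_restr_top hQ)
      Submodule.mem_top hu hu0
    obtain ⟨C, -, hC, -, hdC, hCp, -⟩ := h.exists_rest hQ (nondeg_restr_top hQ) (fun _ _ => Submodule.mem_top)
      Submodule.mem_top Submodule.mem_top hu hz huz'
    rw [finrank_top] at hdC
    obtain ⟨⟨w, hwC⟩, hw0, hw⟩ := hC.exists_singular (by omega)
    rw [restr_apply] at hw
    replace hw0 : w ≠ 0 := fun e => hw0 (Subtype.ext e)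
    obtain ⟨huw, hzw⟩ := hCp w hwC
    refine ⟨sie u w hu huw.1, OrthMax.sie_mem_commutator hQ (by omega) hu huw.1, fun hS => ?_⟩
    obtain ⟨c, e, hce⟩ := (hK _).1 ((hS j).1 hjK)
    set s := sie u w hu huw.1 with hs
    have hgj : ∀ v, (s : (ι → F) ≃ₗ[F] (ι → F)) (j *ᵥ v) = c • ((s : (ι → F) ≃ₗ[F] (ι → F)) v) +
        e • (j *ᵥ (s : (ι → F) ≃ₗ[F] (ι → F)) v) := fun v => by
      have h1 := congrArg (fun N : Matrix ι ι F => (N * (H96.om Q s : Matrix ι ι F)) *ᵥ v) hce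
      simp only [mul_assoc, ← Units.val_mul, inv_mul_cancel, Units.val_one, mul_one, ← Matrix.mulVec_mulVec,
        Matrix.add_mulVec, Matrix.smul_mulVec, Matrix.one_mulVec, H96.om_mulVec] at h1
      exact h1
    have hwJw : polar Q w (j *ᵥ w) = 0 := (h.sing w hw).2
    have hsw : (s : (ι → F) ≃ₗ[F] (ι → F)) w = w :=
      sie_fix' _ _ huw.1 (by rw [polar_self', hw, mul_zero])
    have hsJw : (s : (ι → F) ≃ₗ[F] (ι → F)) (j *ᵥ w) = j *ᵥ w := sie_fix' _ _ huw.2 hwJw
    have h1 := hgj w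
    rw [hsw, hsJw] at h1
    obtain ⟨hc0, he1⟩ := hind w hw0 c (e - 1) (by linear_combination (norm := module) -h1)
    rw [sub_eq_zero] at he1
    have h2 := hgj z
    rw [hc0, he1, zero_smul, one_smul, zero_add] at h2
    have hwz : polar Q w z = 0 := by rw [polar_comm]; exact hzw.1
    have hwJz : polar Q w (j *ᵥ z) = 0 := ((h.ho_J (h.ho_symm hzw))).1
    rw [hs, sie_app, sie_app, hw, huz, hwz, hwJz] at h2
    simp only [zero_mul, sub_zero, zero_smul, add_zero, one_smul, Matrix.mulVec_sub] at h2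
    exact one_ne_zero (α := F) (neg_eq_zero.1
      (hind w hw0 (polar Q u (j *ᵥ z)) (-1) (by linear_combination (norm := module) -h2)).2)
  have hR : ∀ v, Q v = 0 → ∀ a : F, SIn X v (a • Matrix.mulVecLin j v) := by
    intro v hv a
    have hw : polar Q v (a • Matrix.mulVecLin j v) = 0 := by
      rw [polar_smul_right', (h.sing v hv).2, mul_zero]
    refine ⟨hv, hw, hXS _ (OrthMax.sie_mem_commutator hQ (by omega) hv hw) (hconj _ 0 1 fun x => ?_)⟩
    have hQJ : Q (j *ᵥ v) = 0 := (h.sing v hv).1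
    have h1 : polar Q v (j *ᵥ x) = α * polar Q v x - polar Q (j *ᵥ v) x := by
      have := h.adj v x
      simp only [Matrix.mulVecLin_apply] at this
      linear_combination this
    have h2 : polar Q (j *ᵥ v) (j *ᵥ x) = -β * polar Q v x := h.pol_JJ v x
    have h3 : j *ᵥ (j *ᵥ v) = α • (j *ᵥ v) + β • v := h.sq v
    simp only [sie_app, Matrix.mulVecLin_apply, polar_smul_left', qmap_smul, hQJ, h1, h2, Matrix.mulVec_add, Matrix.mulVec_sub,
      Matrix.mulVec_smul, h3]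
    module
  obtain ⟨u, hu, hout⟩ : ∃ u, Q u = 0 ∧ (g : (ι → F) ≃ₗ[F] (ι → F)) (j *ᵥ u) ∉
      ln (Matrix.mulVecLin j) ((g : (ι → F) ≃ₗ[F] (ι → F)) u) := by
    by_contra hc
    push Not at hc
    let A : (ι → F) →ₗ[F] (ι → F) := ((g : (ι → F) ≃ₗ[F] (ι → F)) : (ι → F) →ₗ[F] (ι → F)) ∘ₗ
      Matrix.mulVecLin j ∘ₗ ((g : (ι → F) ≃ₗ[F] (ι → F)).symm : (ι → F) →ₗ[F] (ι → F))
    have hA : ∀ p, Q p = 0 → ∃ a b : F, A p = a • p + b • (j *ᵥ p) := fun p hp => by
      have hp' : Q ((g : (ι → F) ≃ₗ[F] (ι → F)).symm p) = 0 := by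
        rw [← O.map_app g, LinearEquiv.apply_symm_apply]; exact hp
      obtain ⟨a, b, e⟩ := mem_ln.1 (hc _ hp')
      rw [LinearEquiv.apply_symm_apply] at e
      exact ⟨a, b, e.symm⟩
    have link : ∀ p q, Q p = 0 → Q q = 0 → q ≠ 0 → HO Q (Matrix.mulVecLin j) p q →
        p ∉ ln (Matrix.mulVecLin j) q → ∀ a b : F, A p = a • p + b • (j *ᵥ p) → A q = a • q + b • (j *ᵥ q) := by
      intro p q hp hq hq0 hpq hnot a b hab
      obtain ⟨a', b', h'⟩ := hA (p + q) (by rw [map_add_polar, hp, hq, hpq.1, add_zero, add_zero])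
      obtain ⟨a'', b'', h''⟩ := hA q hq
      rw [map_add, hab, h'', Matrix.mulVec_add] at h'
      have e : (a - a') • p + (b - b') • (j *ᵥ p) = (a' - a'') • q + (b' - b'') • (j *ᵥ q) := by
        linear_combination (norm := module) h'
      have hp0 : p ≠ 0 := fun e => hnot (e ▸ Submodule.zero_mem _)
      have hzero : (a - a') • p + (b - b') • (j *ᵥ p) = 0 := by
        by_contra hne
        have hmq : (a - a') • p + (b - b') • (j *ᵥ p) ∈ ln (Matrix.mulVecLin j) q := by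
          rw [e]
          exact mem_ln.2 ⟨_, _, rfl⟩
        have hmp : (a - a') • p + (b - b') • (j *ᵥ p) ∈ ln (Matrix.mulVecLin j) p := mem_ln.2 ⟨_, _, rfl⟩
        obtain ⟨c, d, e'⟩ := mem_ln.1 (h.ln_symm hmp hne)
        refine hnot ?_
        rw [← e']
        exact add_mem (Submodule.smul_mem _ _ hmq) (Submodule.smul_mem _ _ (h.ln_J hmq))
      obtain ⟨h1, h2⟩ := hind p hp0 _ _ hzero
      obtain ⟨h3, h4⟩ := hind q hq0 _ _ (e.symm.trans hzero)
      rw [h'', show a'' = a by linear_combination -h1 - h3, show b'' = b by linear_combination -h2 - h4]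
    obtain ⟨u₀, hu0, hu⟩ := hQ.exists_singular (by omega)
    obtain ⟨a, b, hab⟩ := hA u₀ hu
    let S : Submodule F (ι → F) := LinearMap.ker (A - a • LinearMap.id - b • Matrix.mulVecLin j)
    have hmemS : ∀ v, v ∈ S ↔ A v = a • v + b • (j *ᵥ v) := fun v => by
      show A v - a • v - b • (j *ᵥ v) = 0 ↔ _
      rw [sub_sub, sub_eq_zero]
    have hS : S = ⊤ := span_singular hQ (by omega) S fun v hv => by
      rcases eq_or_ne v 0 with rfl | hv0
      · exact S.zero_mem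
      rw [hmemS]
      rcases h.relay hQ (nondeg_restr_top hQ) (fun _ _ => Submodule.mem_top) (by rw [finrank_top]; omega)
        Submodule.mem_top Submodule.mem_top hu hv hu0 hv0 with ⟨h1, h2⟩ | ⟨t, -, ht, ht0, h1, h2, h3, h4⟩
      · exact link u₀ v hu hv hv0 h1 h2 a b hab
      · exact link t v ht hv hv0 h3 h4 a b (link u₀ t hu ht ht0 h1 h2 a b hab)
    refine hgS (hconj g a b fun v => ?_)
    have h1 := (hmemS _).1 (hS ▸ Submodule.mem_top : (g : (ι → F) ≃ₗ[F] (ι → F)) v ∈ S)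
    simpa [A] using h1
  have hu0 : u ≠ 0 := fun e => hout (by rw [e, Matrix.mulVec_zero, map_zero]; exact Submodule.zero_mem _)
  refine h.sieGroup_le_of_new_ten hR hQ hn (p := (g : (ι → F) ≃ₗ[F] (ι → F)) u)
    (q := (g : (ι → F) ≃ₗ[F] (ι → F)) (j *ᵥ u)) (by rw [O.map_app]; exact hu) ?_
    (by rw [O.map_app]; exact (h.sing u hu).1) (by rw [O.polar_app]; exact (h.sing u hu).2) hout ?_
  · exact fun e => hu0 ((g : (ι → F) ≃ₗ[F] (ι → F)).map_eq_zero_iff.1 e)
  · exact ((hR u hu 1).congr rfl (one_smul F _)).conj hgX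

end Cfsg.Agent.H98.HermOrth
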